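import Cfsg.Agent.H997.FE.Hyp
import Cfsg.Agent.H744.FC.Par

/-!
# S2452, `F₄(q)`, `q = 4, 8, 16, 64`: the `2`-central elements have odd class sizes (helper997)
-/

set_option autoImplicit false
set_option linter.unusedSectionVars false

open Cfsg Cfsg.Lie Subgroup

namespace Cfsg.Agent.H997.FE

open Cfsg.Agent.H598.F4.Num
open Cfsg.Agent.H520.FC (d2)

universe u

variable {K : Type u} [Field K] [Fintype K]

theorem not_dvd [CharP K 2] {q : ℕ} (hq : q = 4 ∨ q = 8 ∨ q = 16 ∨ q = 64) (hK : Fintype.card K = q)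
    {u : ↥(chevF4.group K)} (hu : Cen u) : ¬ 2 ∣ (centralizer ({u} : Set ↥(chevF4.group K))).index := by
  have hfin : Finite ↥(chevF4.group K) := inferInstance
  obtain ⟨g, h1, h2⟩ := hu
  have hc : Nat.card ↥(centralizer ({u} : Set ↥(chevF4.group K))) =
      Nat.card ↥(centralizer ({g * u * g⁻¹} : Set ↥(chevF4.group K))) := by
    have h := Cfsg.Agent.H520.FC.card_cent_conj g⁻¹ u
    rw [inv_inv] at h
    exact h.symm
  have hle : UU K ≤ centralizer ({g * u * g⁻¹} : Set ↥(chevF4.group K)) := by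
    intro v hv
    rw [mem_centralizer_singleton_iff]
    exact (h2 v hv).symm
  have hd : q ^ 24 ∣ Nat.card ↥(centralizer ({u} : Set ↥(chevF4.group K))) := by
    rw [hc]
    have h3 := Subgroup.card_dvd_of_le hle
    have h4 : Nat.card ↥(UU K) = Nat.card K ^ 24 := H744.FC.card_U K
    rw [h4, Nat.card_eq_fintype_card (α := K), hK] at h3
    exact h3
  intro h
  have h5 := (centralizer ({u} : Set ↥(chevF4.group K))).card_mul_index
  have h6 : q ^ 24 * 2 ∣ Nat.card ↥(chevF4.group K) := h5 ▸ mul_dvd_mul hd h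
  rw [card_ordF hK] at h6
  have hq0 : 0 < q := by omega
  have h7 : ordF q = q ^ 24 * ((q ^ 2 - 1) * (q ^ 6 - 1) * (q ^ 8 - 1) * (q ^ 12 - 1)) := by
    rw [ordF]; ring
  rw [h7] at h6
  have h8 := Nat.dvd_of_mul_dvd_mul_left (pow_pos hq0 24) h6
  revert h8
  rcases hq with rfl | rfl | rfl | rfl <;> norm_num

end Cfsg.Agent.H997.FE
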