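import Cfsg.Agent.H997.FE.OC
import Cfsg.Agent.H997.FE.NotDvd
import Cfsg.Agent.H357.T6.AsmTwo
import Cfsg.Agent.H406.FE.Tori
import Cfsg.Agent.H588.TW.Defs

/-!
# S2452, `F₄(q)`, `q = 4, 8, 16, 64`: the row (helper997)
-/

set_option autoImplicit false
set_option linter.unusedSectionVars false

open Cfsg Cfsg.Lie Subgroup

namespace Cfsg.Agent.H997.FE

open Cfsg.Agent.H598.F4.Num
open Cfsg.Agent.H520.FC (d2)
open Cfsg.Agent.H65.Ore
open Cfsg.Agent.Characters Cfsg.Agent.Characters.Core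

/-- the primes -/
theorem exists_primes {q : ℕ} (hq : q = 4 ∨ q = 8 ∨ q = 16 ∨ q = 64) :
    ∃ r s : ℕ, r.Prime ∧ s.Prime ∧ Nat.Coprime r 6 ∧ Nat.Coprime s 6 ∧ r ∣ q ^ 4 - q ^ 2 + 1 ∧ s ∣ q ^ 4 + 1 := by
  rcases hq with rfl | rfl | rfl | rfl
  · exact ⟨241, 257, by norm_num, by norm_num, by norm_num, by norm_num, by norm_num, by norm_num⟩
  · exact ⟨37, 241, by norm_num, by norm_num, by norm_num, by norm_num, by norm_num, by norm_num⟩
  · exact ⟨673, 65537, by norm_num, by norm_num, by norm_num, by norm_num, by norm_num, by norm_num⟩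
  · exact ⟨433, 673, by norm_num, by norm_num, by norm_num, by norm_num, by norm_num, by norm_num⟩

theorem cop {q : ℕ} (hq : q = 4 ∨ q = 8 ∨ q = 16 ∨ q = 64) : (q ^ 4 - q ^ 2 + 1).Coprime (q ^ 4 + 1) := by
  rcases hq with rfl | rfl | rfl | rfl <;> norm_num

theorem lie (K : Type) [Field K] [Fintype K] (p : ℕ) [CharP K p] : IsLieTypeChar p ↥(chevF4.group K) :=
  Or.inr (Or.inr (Or.inr (Or.inr (Or.inr (Or.inr (Or.inl
    ⟨K, inferInstance, inferInstance, inferInstance, Or.inr (Or.inl ⟨MulEquiv.refl _⟩)⟩))))))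

variable {K : Type} [Field K] [Fintype K]

theorem charP_two {q : ℕ} (hq : q = 4 ∨ q = 8 ∨ q = 16 ∨ q = 64) (hK : Fintype.card K = q) : CharP K 2 := by
  obtain ⟨p, hp⟩ := CharP.exists K
  have hpp : p.Prime := CharP.char_is_prime K p
  have : Fact p.Prime := ⟨hpp⟩
  obtain ⟨n, hn, hcard⟩ := FiniteField.card K p
  have h1 : p ∣ q := by
    rw [← hK, hcard]
    exact dvd_pow_self p n.ne_zero
  obtain ⟨f, hf⟩ := exists_f hq
  rw [pow_f hf] at h1
  have h2 := (Nat.prime_dvd_prime_iff_eq hpp Nat.prime_two).1 (hpp.dvd_of_dvd_pow h1)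
  rwa [← h2]

/-- **The row.** -/
theorem row3_F4 (hq : Fintype.card K = 4 ∨ Fintype.card K = 8 ∨ Fintype.card K = 16 ∨ Fintype.card K = 64) :
    Cfsg.Agent.H210.TC.Row3 ↥(chevF4.group K) := by
  classical
  have hfin : Finite ↥(chevF4.group K) := inferInstance
  obtain ⟨q, hK⟩ : ∃ q, Fintype.card K = q := ⟨_, rfl⟩
  rw [hK] at hq
  have hch : CharP K 2 := charP_two hq hK
  have hG : IsLieTypeChar 2 ↥(chevF4.group K) := lie K 2
  obtain ⟨T, -, hab, hT, hc, hw, hone⟩ := H406.FE.T12 hq hK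
  obtain ⟨S, -, hab', hS, hc', hw', hone'⟩ := H406.FE.T8 hq hK
  have hpT : ¬ 2 ∣ q ^ 4 - q ^ 2 + 1 := by rcases hq with rfl | rfl | rfl | rfl <;> norm_num
  have hpS : ¬ 2 ∣ q ^ 4 + 1 := by rcases hq with rfl | rfl | rfl | rfl <;> norm_num
  have hbig : 12 * (12 + 2) + 1 < q ^ 4 - q ^ 2 + 1 ∧ 8 * (8 + 2) + 1 < q ^ 4 + 1 := by
    rcases hq with rfl | rfl | rfl | rfl <;> norm_num
  have hqq : Nat.card K = 4 ∨ Nat.card K = 8 ∨ Nat.card K = 16 ∨ Nat.card K = 64 := by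
    rw [Nat.card_eq_fintype_card, hK]; exact hq
  have hCB := cbe hqq (oc3e (K := K)) ob3e sse
  have hIrr : Fintype (IrrCharacter ↥(chevF4.group K)) := @Fintype.ofFinite _ S0909.finite_irr
  have key : ∀ x ∈ T, x ≠ 1 → ∀ y ∈ S, y ≠ 1 → ∀ g : ↥(chevF4.group K), g ≠ 1 → Prd x y g := by
    intro x hx hx1 y hy hy1 g hg
    refine H357.T6.Asm.asm_two Nat.prime_two hG (n := 2) (D := d2 q) hab hc hw hT hbig.1 hpT ?_ hab' hc' hw' hS hbig.2 hpS ?_
      (cop hq) (by omega) (by omega) (hdeg hq hK) (Or.inr (Or.inr ⟨rfl, hneg hq hK⟩)) ?_ hx hx1 hy hy1 g hg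
    · intro χ c h
      rcases hone χ c h with h | h | h <;> omega
    · intro χ c h
      rcases hone' χ c h with h | h | h <;> omega
    · intro g hg hi
      have h1 := hCB g hg fun hcon => not_dvd hq hK hcon hi
      rw [Nat.card_eq_fintype_card (α := K), hK] at h1
      omega
  obtain ⟨r, s, hr, hs, hr6, hs6, hrT, hsS⟩ := exists_primes hq
  have : Fact r.Prime := ⟨hr⟩
  have : Fact s.Prime := ⟨hs⟩
  obtain ⟨x', hx'⟩ := exists_prime_orderOf_dvd_card' (G := T) r (by rw [hT]; exact hrT)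
  obtain ⟨y', hy'⟩ := exists_prime_orderOf_dvd_card' (G := S) s (by rw [hS]; exact hsS)
  have hxo : orderOf (x' : ↥(chevF4.group K)) = r := by rw [Subgroup.orderOf_coe, hx']
  have hyo : orderOf (y' : ↥(chevF4.group K)) = s := by rw [Subgroup.orderOf_coe, hy']
  have hx1 : (x' : ↥(chevF4.group K)) ≠ 1 := by
    intro h; rw [h, orderOf_one] at hxo; exact hr.one_lt.ne hxo
  have hy1 : (y' : ↥(chevF4.group K)) ≠ 1 := by
    intro h; rw [h, orderOf_one] at hyo; exact hs.one_lt.ne hyo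
  have hTc : ¬ 2 ∣ Nat.card ↥(centralizer ({(x' : ↥(chevF4.group K))} : Set ↥(chevF4.group K))) := by
    intro h
    exact hpT (hT ▸ h.trans (Subgroup.card_dvd_of_le (hc _ x'.2 hx1)))
  have h2r : ¬ 2 ∣ r := by
    intro h
    have h1 := (Nat.prime_dvd_prime_iff_eq Nat.prime_two hr).1 h
    rw [← h1] at hr6
    norm_num at hr6
  have h2s : ¬ 2 ∣ s := by
    intro h
    have h1 := (Nat.prime_dvd_prime_iff_eq Nat.prime_two hs).1 h
    rw [← h1] at hs6
    norm_num at hs6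
  have hprd : ∀ g : ↥(chevF4.group K), g ≠ 1 → ∃ u v : ↥(chevF4.group K), g = (u * x' * u⁻¹) * (v * y' * v⁻¹) := by
    intro g hg
    exact key x' x'.2 hx1 y' y'.2 hy1 g hg
  refine ⟨x', y', by rw [hxo]; exact hr, by rw [hxo]; exact hr6, by rw [hyo]; exact hs, by rw [hyo]; exact hs6, hprd, ?_⟩
  intro g
  by_cases hg : g = 1
  · -- `x⁻¹` is a product of two conjugates of `x`
    obtain ⟨u, v, e⟩ := H330.Gow.gow Nat.prime_two hG hTc hTc (z := ((x' : ↥(chevF4.group K)))⁻¹) (inv_ne_one.2 hx1)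
      (by rw [orderOf_inv, hxo]; exact h2r)
    refine ⟨u, v, 1, ?_⟩
    rw [hg, e]
    group
  · obtain ⟨u, v, e⟩ := hprd g hg
    obtain ⟨a, b, e'⟩ := H330.Gow.gow Nat.prime_two hG hTc hTc (z := (y' : ↥(chevF4.group K))) hy1 (by rw [hyo]; exact h2s)
    refine ⟨u, v * a, v * b, ?_⟩
    rw [e, ← e']
    group

/-- **The row of S2452.** -/
theorem row_F4_even (hq : Fintype.card K = 4 ∨ Fintype.card K = 8 ∨ Fintype.card K = 16 ∨ Fintype.card K = 64) :
    Cfsg.Agent.H588.TW.T52 ↥(chevF4.group K) := Cfsg.Agent.H588.TW.T52.of_row3 (row3_F4 hq)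

end Cfsg.Agent.H997.FE
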