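import Cfsg.Agent.H520.FC.Defs

/-!
# S2452, `F₄(q)`, `q = 4, 8, 16, 64`: the interface of the bound for `|C(g)|`, `g` of even order (helper997)

* `Cen u` : `u` is conjugate into the centre of `U` (the `2`-central elements);
* `OC3e`, `OB3e` : the bounds for the classes in the parabolics of type `C₃`, `B₃`, characteristic 2;
* `CBe` : the bound for all `g` of even order which are not `2`-central.
-/

set_option autoImplicit false
set_option linter.unusedSectionVars false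

namespace Cfsg.Agent.H997.FE

open CoxeterSystem Cfsg.Agent.ChevalleyStructure.CoxeterGeom Cfsg.Agent.Tits.Roots Cfsg.Agent.Tits.Core
  Cfsg.Agent.Tits.Exchange Cfsg.Agent.Nodes.Reps Cfsg.Agent.Nodes.BNOf Cfsg.Agent.Nodes.StabComb
  Cfsg.Agent.Nodes.Bruhat Cfsg.Agent.Nodes.OppDec Cfsg.Agent.Nodes.LeviDec Cfsg.Agent.Nodes.NormX
  Cfsg.Agent.Nodes.Coroot Cfsg.Agent.Nodes.RGDChev Cfsg.Agent.KFacts.RgdPar Cfsg.Agent.KFacts.RgdTI
  Cfsg.Agent.KFacts.RgdCent Cfsg.Agent.KFacts.RgdChevCoord Cfsg.Agent.Nodes.ChevCls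
  Cfsg.Agent.OddHalf.NI.ModelChev Cfsg.Agent.H225.PPow
open Cfsg.Lie Cfsg.Agent.ChevalleyStructure Cfsg.Agent.ChevalleyStructure.Elts
  Cfsg.Agent.ChevalleyStructure.RootVec Cfsg.Agent.ChevalleyStructure.NPerm
  Cfsg.Agent.ChevalleyStructure.CoxeterGeomTypes
open Cfsg.Agent.H701.F43.Cent (hF cF)
open Cfsg.Agent.H520.FC (PK VK XT cls d2)

universe u

/-- the unipotent group `U` -/
abbrev UU (K : Type u) [Field K] : Subgroup ↥(chevF4.group K) := RGD.Sup (XX chevF4 4 K) (RGD.Pos cF hF.isCartan)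

/-- `u` is conjugate into the centre of `U` -/
def Cen {K : Type u} [Field K] (u : ↥(chevF4.group K)) : Prop :=
  ∃ g : ↥(chevF4.group K), g * u * g⁻¹ ∈ UU K ∧ ∀ v ∈ UU K, g * u * g⁻¹ * v = v * (g * u * g⁻¹)

/-- generated by the root groups with numbers in the list -/
def Z7 (K : Type u) [Field K] (L : List ℕ) : Subgroup ↥(chevF4.group K) :=
  RGD.Sup (XX chevF4 4 K) {x | ∃ r ∈ L, x = vec chevF4 4 r}

/-- the centre of `V_1`, characteristic 2 -/
def L1 : List ℕ := [29, 36, 38, 39, 40, 44, 47]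

/-- the centre of `V_4`, characteristic 2 -/
def L4 : List ℕ := [41, 42, 43, 44, 45, 46, 47]

/-- (U2) -/
def U2e (K : Type u) [Field K] : Prop :=
  ∀ u ∈ VK K {k | k ≠ 3}, u ∉ Z7 K L1 → (Nat.card K - 1) * Nat.card K ^ 6 ≤ Nat.card ↥(cls (PK K {k | k ≠ 3}) u)

/-- (U4), the group `V_1` -/
def Z1e (K : Type u) [Field K] : Prop := ∀ u ∈ Z7 K L1, Cen u

/-- (U4), the group `V_4` -/
def Z4e (K : Type u) [Field K] : Prop := ∀ u ∈ Z7 K L4, Cen u

/-- the parabolic of type `C₃`, characteristic 2 -/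
def OC3e (K : Type u) [Field K] : Prop :=
  ∀ u ∈ VK K {k | k ≠ 3}, ¬ Cen u → (Nat.card K - 1) * Nat.card K ^ 6 ≤ Nat.card ↥(cls (PK K {k | k ≠ 3}) u)

/-- the parabolic of type `B₃`, characteristic 2 -/
def OB3e (K : Type u) [Field K] : Prop :=
  ∀ u ∈ VK K {k | k ≠ 0}, ¬ Cen u → (Nat.card K - 1) * Nat.card K ^ 6 ≤ Nat.card ↥(cls (PK K {k | k ≠ 0}) u)

/-- elements of odd order -/
def SSe (K : Type u) [Field K] : Prop :=
  ∀ s : ↥(chevF4.group K), s ≠ 1 → (orderOf s).Coprime 2 →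
    Nat.card ↥(Subgroup.centralizer ({s} : Set ↥(chevF4.group K))) ≤
      1152 * (Nat.card K + 1) ^ 4 * Nat.card K ^ 18

/-- **The bound.** -/
def CBe (K : Type u) [Field K] : Prop :=
  ∀ g : ↥(chevF4.group K), 2 ∣ orderOf g → ¬ Cen g →
    2 * Nat.card ↥(Subgroup.centralizer ({g} : Set ↥(chevF4.group K))) < d2 (Nat.card K) ^ 2

end Cfsg.Agent.H997.FE
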