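import Cfsg.Agent.H997.FE.Defs
import Cfsg.Agent.H520.FC.CB

/-!
# S2452, `F₄(q)`, `q = 4, 8, 16, 64`: `2 |C(g)| < d2²` for `g` of even order, not `2`-central (helper997)

* `cb_unip` : `g` of order a power of `2`, from `OC3e`, `OB3e`;
* `cbe` : all `g`, from `SSe`.
-/

set_option autoImplicit false
set_option linter.unusedSectionVars false

namespace Cfsg.Agent.H997.FE

open Subgroup CoxeterSystem Cfsg.Agent.ChevalleyStructure.CoxeterGeom Cfsg.Agent.Tits.Core
  Cfsg.Agent.Tits.Exchange Cfsg.Agent.Nodes.Reps Cfsg.Agent.Nodes.BNOf Cfsg.Agent.Nodes.StabComb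
  Cfsg.Agent.Nodes.Bruhat Cfsg.Agent.Nodes.OppDec Cfsg.Agent.Nodes.LeviDec Cfsg.Agent.Nodes.NormX
  Cfsg.Agent.Nodes.Coroot Cfsg.Agent.Nodes.RGDChev Cfsg.Agent.KFacts.RgdPar Cfsg.Agent.KFacts.RgdTI
  Cfsg.Agent.KFacts.RgdCent Cfsg.Agent.KFacts.RgdChevCoord Cfsg.Agent.Nodes.ChevCls
  Cfsg.Agent.OddHalf.NI.ModelChev Cfsg.Agent.H225.PPow
open Cfsg.Agent.Tits.Roots hiding ht
open Cfsg.Agent.OddHalf.D4.LineRgd (ht)
open Cfsg.Lie Cfsg.Agent.ChevalleyStructure Cfsg.Agent.ChevalleyStructure.Elts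
  Cfsg.Agent.ChevalleyStructure.RootVec Cfsg.Agent.ChevalleyStructure.NPerm
  Cfsg.Agent.ChevalleyStructure.CoxeterGeomTypes
open Cfsg.Agent.H701.F43.Cent (hF cF nroots finW)
open Cfsg.Agent.KFacts.RgdBorelTits Cfsg.Agent.KFacts.RgdFilt
open Cfsg.Agent.H520.FC (PK VK XT cls d2 cls_mul_le card_cent_conj card_gen)

universe u

variable {K : Type u} [Field K]

theorem Cen.conj {u : ↥(chevF4.group K)} (g : ↥(chevF4.group K)) (h : Cen (g⁻¹ * u * g)) : Cen u := by
  obtain ⟨a, ha⟩ := h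
  refine ⟨a * g⁻¹, ?_⟩
  have e : a * g⁻¹ * u * (a * g⁻¹)⁻¹ = a * (g⁻¹ * u * g) * a⁻¹ := by group
  rw [e]
  exact ha

/-- the numbers -/
theorem num : ∀ q, q = 4 ∨ q = 8 ∨ q = 16 ∨ q = 64 → ∀ N : ℕ,
      ((q - 1) * 2 * N ≤ ((1 + q) * (1 + q + q ^ 2) * (1 + q)) * (q ^ 24 * (q - 1) ^ 4) ∨
        (q - 1) * 2 * N ≤ ((1 + q) * (1 + q) * (1 + q ^ 2)) * (q ^ 24 * (q - 1) ^ 4) ∨
        (q - 1) * q ^ 6 * N ≤ ((1 + q) * ((1 + q) * (1 + q ^ 2)) * ((1 + q + q ^ 2) * (1 + q ^ 3))) * (q ^ 24 * (q - 1) ^ 4) ∨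
        N ≤ 1152 * (q + 1) ^ 4 * q ^ 18) →
      2 * N < d2 q ^ 2 := by
  intro q hq' N hN
  rcases hq' with rfl | rfl | rfl | rfl
  · rw [d2]; norm_num at hN ⊢; omega
  · rw [d2]; norm_num at hN ⊢; omega
  · rw [d2]; norm_num at hN ⊢; omega
  · rw [d2]; norm_num at hN ⊢; omega

/-- **The unipotent elements.** -/
theorem cb_unip [Finite K] [CharP K 2] (hq : Nat.card K = 4 ∨ Nat.card K = 8 ∨ Nat.card K = 16 ∨ Nat.card K = 64)
    (h3 : OC3e K) (h0 : OB3e K)
    {u : ↥(chevF4.group K)} (hu1 : u ≠ 1) {e : ℕ} (hue : u ^ 2 ^ e = 1) (hl : ¬ Cen u) :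
    2 * Nat.card ↥(centralizer ({u} : Set ↥(chevF4.group K))) < d2 (Nat.card K) ^ 2 := by
  have : Fact (Nat.Prime 2) := ⟨Nat.prime_two⟩
  have hW := finite_W hF cF
  have hfin : Finite ↥(chevF4.group K) := inferInstance
  have hFil := KFacts.RgdFiltChev.filt (K := K) hF cF 2
  have hG := KFacts.RgdFilt.GG_eq_top (T := TT chevF4 K) (G1_eq_top hF (K := K) cF)
  have R := rgd (K := K) hF cF 2
  have hK : IsPGroup 2 (zpowers u) := by
    rintro ⟨y, n, rfl⟩
    refine ⟨e, Subtype.ext ?_⟩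
    show (u ^ n) ^ 2 ^ e = 1
    rw [← zpow_natCast, ← zpow_mul, mul_comm, zpow_mul, zpow_natCast, hue, one_zpow]
  obtain ⟨g, J, hJ, hle, hN⟩ := borel_tits hFil hG hK (by rw [Ne, zpowers_eq_bot]; exact hu1)
  obtain ⟨v, hv, hvu⟩ : ∃ v ∈ VK K J, g * v * g⁻¹ = u := by
    obtain ⟨v, hv, hvu⟩ := hle (mem_zpowers u)
    exact ⟨v, hv, hvu⟩
  have hvu' : v = g⁻¹ * u * g := by rw [← hvu]; group
  have hlv : ¬ Cen v := fun hcon => hl (Cen.conj g (hvu' ▸ hcon))
  have hv1 : v ≠ 1 := by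
    rintro rfl
    apply hu1
    rw [← hvu]
    group
  have hCv : centralizer {v} ≤ PK K J := by
    intro x hx
    have h1 : g * x * g⁻¹ ∈ cj g (PK K J) := by
      apply hN
      refine centralizer_le_normalizer _ ?_
      rw [mem_centralizer_iff]
      rintro y ⟨n, rfl⟩
      have h2 : Commute u (g * x * g⁻¹) := by
        have h3 := mem_centralizer_singleton_iff.1 hx
        show u * (g * x * g⁻¹) = g * x * g⁻¹ * u
        rw [← hvu]
        calc g * v * g⁻¹ * (g * x * g⁻¹) = g * (v * x) * g⁻¹ := by group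
          _ = g * (x * v) * g⁻¹ := by rw [h3]
          _ = g * x * g⁻¹ * (g * v * g⁻¹) := by group
      exact h2.zpow_left n
    obtain ⟨y, hy, hyx⟩ := h1
    have h2 : y = x := (MulAut.conj g).injective hyx
    exact h2 ▸ hy
  have hcard : Nat.card ↥(centralizer ({u} : Set ↥(chevF4.group K))) = Nat.card ↥(centralizer ({v} : Set ↥(chevF4.group K))) := by
    rw [hvu', card_cent_conj]
  rw [hcard]
  have hvU : v ∈ RGD.Sup (XX chevF4 4 K) (RGD.Pos cF hF.isCartan) := VJ_le_U J hv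
  have hgen : ∀ J' : Set (Fin 4), J ⊆ J' →
      (Nat.card K - 1) * 2 * Nat.card ↥(centralizer ({v} : Set ↥(chevF4.group K))) ≤ Nat.card ↥(PK K J') := by
    intro J' hJJ
    have hnc : ∃ w ∈ RGD.Sup (XX chevF4 4 K) (RGD.Pos cF hF.isCartan), w * v ≠ v * w := by
      by_contra hcon
      push Not at hcon
      refine hlv ⟨1, ?_⟩
      rw [one_mul, inv_one, mul_one]
      exact ⟨hvU, fun w hw => (hcon w hw).symm⟩
    obtain ⟨w, hw, hwv⟩ := hnc
    have h1 := card_gen 2 hvU hv1 hw hwv hCv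
    exact le_trans h1 (H744.FC.card_le_of_subset hJJ)
  have e3 : ({0, 1, 2} : Set (Fin 4)) = {k | k ≠ 3} := by
    ext j
    simp only [Set.mem_insert_iff, Set.mem_singleton_iff, Set.mem_ofPred_eq]
    revert j
    decide
  have e0 : ({1, 2, 3} : Set (Fin 4)) = {k | k ≠ 0} := by
    ext j
    simp only [Set.mem_insert_iff, Set.mem_singleton_iff, Set.mem_ofPred_eq]
    revert j
    decide
  have hd' := num _ hq (Nat.card ↥(centralizer ({v} : Set ↥(chevF4.group K))))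
  rcases H744.FC.sub_cases hJ with rfl | rfl | h1 | h1 | h1
  · rw [e3] at hv hCv
    apply hd'
    right; right; left
    rw [← H744.FC.card_ne3]
    refine le_trans ?_ (cls_mul_le hCv)
    exact Nat.mul_le_mul_right _ (h3 v hv hlv)
  · rw [e0] at hv hCv
    apply hd'
    right; right; left
    rw [← H744.FC.card_ne0]
    refine le_trans ?_ (cls_mul_le hCv)
    exact Nat.mul_le_mul_right _ (h0 v hv hlv)
  · apply hd'
    left
    rw [← H744.FC.card_013 (J := {0, 1, 3}) (by simp)]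
    exact hgen _ h1
  · apply hd'
    left
    rw [← H744.FC.card_023 (J := {0, 2, 3}) (by simp)]
    exact hgen _ h1
  · apply hd'
    right; left
    rw [← H744.FC.card_12 (J := {1, 2}) (by simp)]
    exact hgen _ h1

/-- **The bound**, from its parts. -/
theorem cbe [Finite K] [CharP K 2] (hq : Nat.card K = 4 ∨ Nat.card K = 8 ∨ Nat.card K = 16 ∨ Nat.card K = 64)
    (h3 : OC3e K) (h0 : OB3e K) (hS : SSe K) : CBe K := by
  intro g hg hl
  have : Fact (Nat.Prime 2) := ⟨Nat.prime_two⟩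
  have hfin : Finite ↥(chevF4.group K) := inferInstance
  obtain ⟨i, j, k, m, hij, hi, hj, hm⟩ := Cfsg.Agent.H548.CosetMod.exists_parts 2 g
  set u := g ^ i with hu
  set s := g ^ j with hs
  have hle : ∀ y : ↥(chevF4.group K), ∀ n : ℕ, y = g ^ n →
      Nat.card ↥(centralizer ({g} : Set ↥(chevF4.group K))) ≤ Nat.card ↥(centralizer ({y} : Set ↥(chevF4.group K))) := by
    rintro _ n rfl
    refine Nat.card_le_card_of_injective (Subgroup.inclusion ?_) (Subgroup.inclusion_injective _)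
    intro y hy
    rw [mem_centralizer_singleton_iff] at hy ⊢
    have h1 : Commute y g := hy
    exact h1.pow_right n
  by_cases hs1 : s = 1
  · rw [hs1, mul_one] at hij
    refine cb_unip (e := k) hq h3 h0 ?_ ?_ hl
    · rintro rfl
      rw [orderOf_one] at hg
      omega
    · rw [hij]; exact hi
  · apply num _ hq
    right; right; right
    refine le_trans (hle s j rfl) (hS s hs1 ?_)
    have h2 : orderOf s ∣ m := orderOf_dvd_of_pow_eq_one hj
    exact Nat.Coprime.coprime_dvd_left h2 hm.symm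

/-- `OC3e` from (U2) and (U4) -/
theorem oc3e_of (h2 : U2e K) (h1 : Z1e K) : OC3e K :=
  fun u hu hc => h2 u hu fun hcon => hc (h1 u hcon)

end Cfsg.Agent.H997.FE
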