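import Cfsg.Agent.H997.FE.OB
import Cfsg.Agent.H972.CS.F4Gen
import Cfsg.Agent.H598.F4.Num64
import Cfsg.Agent.S1062

/-!
# S2452, `F₄(q)`, `q = 4, 8, 16, 64`: the numbers and the elements of odd order (helper997)
-/

set_option autoImplicit false
set_option linter.unusedSectionVars false

open Cfsg Cfsg.Lie Subgroup

namespace Cfsg.Agent.H997.FE

open Cfsg.Agent.H598.F4.Num
open Cfsg.Agent.H520.FC (d2)

universe u

variable {K : Type u} [Field K] [Fintype K]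

theorem card_ordF {q : ℕ} (hK : Fintype.card K = q) : Nat.card ↥(chevF4.group K) = ordF q := S1062.result hK

/-- the exponent of `2` in the order -/
theorem fact {q f : ℕ} (hq : q = 4 ∧ f = 2 ∨ q = 8 ∧ f = 3 ∨ q = 16 ∧ f = 4 ∨ q = 64 ∧ f = 6)
    (hK : Fintype.card K = q) : (Nat.card ↥(chevF4.group K)).factorization 2 = 24 * f := by
  have hM : ¬ 2 ∣ (q ^ 2 - 1) * (q ^ 6 - 1) * (q ^ 8 - 1) * (q ^ 12 - 1) := by
    rcases hq with ⟨rfl, -⟩ | ⟨rfl, -⟩ | ⟨rfl, -⟩ | ⟨rfl, -⟩ <;> norm_num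
  have hM0 : (q ^ 2 - 1) * (q ^ 6 - 1) * (q ^ 8 - 1) * (q ^ 12 - 1) ≠ 0 := fun h => hM (h ▸ dvd_zero 2)
  have hqf : q = 2 ^ f := by
    rcases hq with ⟨rfl, rfl⟩ | ⟨rfl, rfl⟩ | ⟨rfl, rfl⟩ | ⟨rfl, rfl⟩ <;> norm_num
  have h1 : Nat.card ↥(chevF4.group K) = 2 ^ (24 * f) * ((q ^ 2 - 1) * (q ^ 6 - 1) * (q ^ 8 - 1) * (q ^ 12 - 1)) := by
    rw [S1062.result hK, mul_comm 24 f, pow_mul, ← hqf]; ring
  rw [h1, Nat.factorization_mul (pow_ne_zero _ (by norm_num)) hM0, Finsupp.add_apply, Nat.prime_two.factorization_pow,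
    Finsupp.single_eq_same, Nat.factorization_eq_zero_of_not_dvd hM, add_zero]

theorem exists_f {q : ℕ} (hq : q = 4 ∨ q = 8 ∨ q = 16 ∨ q = 64) :
    ∃ f, q = 4 ∧ f = 2 ∨ q = 8 ∧ f = 3 ∨ q = 16 ∧ f = 4 ∨ q = 64 ∧ f = 6 := by
  rcases hq with rfl | rfl | rfl | rfl
  · exact ⟨2, Or.inl ⟨rfl, rfl⟩⟩
  · exact ⟨3, Or.inr (Or.inl ⟨rfl, rfl⟩)⟩
  · exact ⟨4, Or.inr (Or.inr (Or.inl ⟨rfl, rfl⟩))⟩
  · exact ⟨6, Or.inr (Or.inr (Or.inr ⟨rfl, rfl⟩))⟩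

theorem pow_f {q f : ℕ} (hq : q = 4 ∧ f = 2 ∨ q = 8 ∧ f = 3 ∨ q = 16 ∧ f = 4 ∨ q = 64 ∧ f = 6) : q = 2 ^ f := by
  rcases hq with ⟨rfl, rfl⟩ | ⟨rfl, rfl⟩ | ⟨rfl, rfl⟩ | ⟨rfl, rfl⟩ <;> norm_num

theorem D2_eq {q : ℕ} (hq : q = 4 ∨ q = 8 ∨ q = 16 ∨ q = 64) : d2 q = D2 q := by
  rcases hq with rfl | rfl | rfl | rfl <;> · rw [d2, D2]; norm_num

theorem D2_sq {q : ℕ} (hq : q = 4 ∨ q = 8 ∨ q = 16 ∨ q = 64) : D2 q * D2 q ≤ ordF q := by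
  rcases hq with rfl | rfl | rfl | rfl <;> · rw [ordF, D2]; norm_num

theorem D2_lt {q : ℕ} (hq : q = 4 ∨ q = 8 ∨ q = 16 ∨ q = 64) : D2 q < D3 q ∧ D2 q < q ^ 24 := by
  rcases hq with rfl | rfl | rfl | rfl <;> · rw [D3, D2]; norm_num

/-- the degrees below `D2` -/
theorem hdeg {q : ℕ} (hq : q = 4 ∨ q = 8 ∨ q = 16 ∨ q = 64) (hK : Fintype.card K = q) (d : ℕ)
    (hd : d ∣ Nat.card ↥(chevF4.group K)) (a b : ℤ) (ha : a = 1 ∨ a = -1) (hb : b = 1 ∨ b = -1)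
    (h1 : ((q ^ 4 - q ^ 2 + 1 : ℕ) : ℤ) ∣ (d : ℤ) - a) (h2 : ((q ^ 4 + 1 : ℕ) : ℤ) ∣ (d : ℤ) - b) (hlt : d < d2 q) :
    d = 1 ∨ ∃ k < (Nat.card ↥(chevF4.group K)).factorization 2, d = 2 ^ k := by
  rw [D2_eq hq] at hlt
  obtain ⟨f, hf⟩ := exists_f hq
  have hf0 : 0 < f := by omega
  rw [card_ordF hK] at hd
  have hle : d * d ≤ ordF q := le_trans (Nat.mul_le_mul hlt.le hlt.le) (D2_sq hq)
  rcases num_even_full hq hd ha hb h1 h2 hle with h | h | h | h | h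
  · exact Or.inl h.1
  · right
    refine ⟨12 * f, ?_, ?_⟩
    · rw [fact hf hK]; omega
    · rw [h.1, mul_comm 12 f, pow_mul, ← pow_f hf]
  · omega
  · have := (D2_lt hq).1
    omega
  · have := (D2_lt hq).2
    omega

/-- the signs -/
theorem hneg {q : ℕ} (hq : q = 4 ∨ q = 8 ∨ q = 16 ∨ q = 64) (hK : Fintype.card K = q) (d : ℕ)
    (hd : d ∣ Nat.card ↥(chevF4.group K)) (hdd : d * d < Nat.card ↥(chevF4.group K)) (a b : ℤ)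
    (ha : a = 1 ∨ a = -1) (hb : b = 1 ∨ b = -1)
    (h1 : ((q ^ 4 - q ^ 2 + 1 : ℕ) : ℤ) ∣ (d : ℤ) - a) (h2 : ((q ^ 4 + 1 : ℕ) : ℤ) ∣ (d : ℤ) - b) :
    d = 1 ∨ a * b = -1 ∨ 2 ^ (Nat.card ↥(chevF4.group K)).factorization 2 ∣ d := by
  obtain ⟨f, hf⟩ := exists_f hq
  rw [card_ordF hK] at hd hdd
  rcases num_even_full hq hd ha hb h1 h2 hdd.le with ⟨h, -, -⟩ | ⟨-, h, h'⟩ | ⟨-, h, h'⟩ | ⟨-, h, h'⟩ | ⟨h, -, -⟩
  · exact Or.inl h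
  · right; left; rw [h, h']; norm_num
  · right; left; rw [h, h']; norm_num
  · right; left; rw [h, h']; norm_num
  · right; right
    rw [fact hf hK, h]
    refine dvd_of_eq ?_
    rw [mul_comm 24 f, pow_mul, ← pow_f hf]

/-- the elements of odd order -/
theorem sse [CharP K 2] : SSe K := by
  intro s hs1 hs
  have hfin : Finite ↥(chevF4.group K) := inferInstance
  have h := Cfsg.Agent.H972.CS.F4Gen.f4_gen_even (F := K) (by exact_mod_cast CharP.cast_eq_zero K 2) (x := s) (by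
    rintro ⟨n, hn⟩
    rw [hn] at hs
    rcases Nat.eq_zero_or_pos n with rfl | h0
    · rw [pow_zero] at hn
      exact hs1 (orderOf_eq_one_iff.1 hn)
    · have := (Nat.coprime_pow_left_iff h0 2 2).1 hs
      norm_num at this)
  rw [Nat.card_eq_fintype_card (α := K)]
  exact h

end Cfsg.Agent.H997.FE
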