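import Cfsg.Agent.H997.FE.OB
import Cfsg.Agent.H446.FE.ZFour
import Cfsg.Agent.H930.FE.Spin3

/-!
# S2452, `F₄(q)`, `q` even: `OC3e`, `OB3e` (helper997)
-/

set_option autoImplicit false
set_option linter.unusedSectionVars false

namespace Cfsg.Agent.H997.FE

open Cfsg.Lie
open Cfsg.Agent.H520.FC (PK VK XT cls d2)

universe u

variable {K : Type u} [Field K]

theorem u2e [Finite K] [CharP K 2] : U2e K := by
  intro u hu hc
  refine H930.FE.spin3 (by exact_mod_cast CharP.cast_eq_zero K 2) hu fun hcon => hc ?_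
  rw [Z7_eq fun r hr => ltL r (List.mem_append_right _ hr)]
  exact hcon

theorem oc3e [Finite K] [CharP K 2] : OC3e K := oc3e_of u2e H446.FE.z1e

theorem ob3e [Finite K] [CharP K 2] : OB3e K := ob3e_of H446.FE.z4e

end Cfsg.Agent.H997.FE
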